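import Cfsg.Agent.H497.RIM.OwnAbs
import Cfsg.Agent.H497.RIM.PSUThree
import Cfsg.Agent.S2089

/-!
# S4816, task RIM-L-OWN, `PSU 3 F q`, `3 ∣ q + 1`: the own characteristic `p` odd (helper497)

* `nb_psu3_own` : `NB p 3 (PSU 3 F q)`, `p ∣ q` odd, `3 ∣ q + 1`;
* `nball_psu3_own` : `NBall p (PSU 3 F q)`, `p ∣ q` odd.
-/

set_option autoImplicit false

namespace Cfsg.Agent.H497.RIM.Own

open Cfsg Cfsg.Agent.Characters.Core
open Cfsg.Agent.LieRecognition.RankOneAbstract (Data)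
open Cfsg.Agent.H665.RIM (NB NBall)
open Cfsg.Agent.HKS (RankOne)

universe u

section frame

variable {G : Type*} [Group G] {B C : Subgroup G} {w : G}

/-- the two point stabiliser -/
def twoPt (B : Subgroup G) (w : G) : Subgroup G := B ⊓ B.comap (MulAut.conj w⁻¹).toMonoidHom

theorem mem_twoPt {t : G} : t ∈ twoPt B w ↔ t ∈ B ∧ w⁻¹ * t * w ∈ B := by
  rw [twoPt, Subgroup.mem_inf, Subgroup.mem_comap]
  have : (MulAut.conj w⁻¹).toMonoidHom t = w⁻¹ * t * w := by
    change w⁻¹ * t * w⁻¹⁻¹ = _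
    rw [inv_inv]
  rw [this]

theorem w_conj_eq (hc : w * w ∈ Subgroup.center G) (t : G) : w * t * w⁻¹ = w⁻¹ * t * w := by
  have h1 := Subgroup.mem_center_iff.1 hc t
  calc w * t * w⁻¹ = w⁻¹ * (w * w * t) * w⁻¹ := by group
    _ = w⁻¹ * (t * (w * w)) * w⁻¹ := by rw [h1]
    _ = w⁻¹ * t * w := by group

theorem twoPt_conj (hc : w * w ∈ Subgroup.center G) {t : G} (ht : t ∈ twoPt B w) : w⁻¹ * t * w ∈ twoPt B w := by
  rw [mem_twoPt] at ht ⊢
  refine ⟨ht.2, ?_⟩
  rw [← w_conj_eq hc]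
  have : w * (w⁻¹ * t * w) * w⁻¹ = t := by group
  rw [this]
  exact ht.1

/-- the stabiliser of the pair -/
def pairSt (B : Subgroup G) (w : G) (hc : w * w ∈ Subgroup.center G) (hB : w * w ∈ B) : Subgroup G where
  carrier := {g | g ∈ twoPt B w ∨ w⁻¹ * g ∈ twoPt B w}
  mul_mem' := by
    have hww : w * w ∈ twoPt B w := by
      rw [mem_twoPt]
      refine ⟨hB, ?_⟩
      have : w⁻¹ * (w * w) * w = w * w := by group
      rwa [this]
    rintro a b (ha | ha) (hb | hb)
    · exact Or.inl (mul_mem ha hb)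
    · refine Or.inr ?_
      have : w⁻¹ * (a * b) = (w⁻¹ * a * w) * (w⁻¹ * b) := by group
      rw [this]
      exact mul_mem (twoPt_conj hc ha) hb
    · refine Or.inr ?_
      rw [← mul_assoc]
      exact mul_mem ha hb
    · refine Or.inl ?_
      have : a * b = (w * w) * (w⁻¹ * (w⁻¹ * a) * w) * (w⁻¹ * b) := by group
      rw [this]
      exact mul_mem (mul_mem hww (twoPt_conj hc ha)) hb
  one_mem' := Or.inl (one_mem _)
  inv_mem' := by
    have hww : w * w ∈ twoPt B w := by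
      rw [mem_twoPt]
      refine ⟨hB, ?_⟩
      have : w⁻¹ * (w * w) * w = w * w := by group
      rwa [this]
    rintro a (ha | ha)
    · exact Or.inl (inv_mem ha)
    · refine Or.inr ?_
      have : w⁻¹ * a⁻¹ = (w⁻¹ * (w⁻¹ * a)⁻¹ * w) * (w * w)⁻¹ := by group
      rw [this]
      exact mul_mem (twoPt_conj hc (inv_mem ha)) (inv_mem hww)

theorem mem_pairSt {hc : w * w ∈ Subgroup.center G} {hB : w * w ∈ B} {g : G} :
    g ∈ pairSt B w hc hB ↔ g ∈ twoPt B w ∨ w⁻¹ * g ∈ twoPt B w := Iff.rfl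

theorem rankOne_of_data (D : Data B C w) (hc : w * w ∈ Subgroup.center G) (hB : w * w ∈ B) :
    RankOne B C (twoPt B w) (pairSt B w hc hB) w where
  QB := D.le
  Qn := D.norm
  DB := fun t ht => (mem_twoPt.1 ht).1
  Bmul := by
    intro b hb
    have hbw : b * w ∉ B := by
      intro h
      apply D.w_not_mem
      have := B.mul_mem (B.inv_mem hb) h
      rwa [inv_mul_cancel_left] at this
    obtain ⟨s, hs, h⟩ := D.bruhat (b * w) hbw
    refine ⟨s, hs, s⁻¹ * b, ?_, by group⟩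
    rw [mem_twoPt]
    refine ⟨B.mul_mem (B.inv_mem (D.le hs)) hb, ?_⟩
    have : w⁻¹ * (s⁻¹ * b) * w = (s * w)⁻¹ * (b * w) := by group
    rwa [this]
  QD := fun x hx hxT => D.inter x hx (mem_twoPt.1 hxT).2
  DW := fun t ht => Or.inl ht
  wW := Or.inr (by rw [inv_mul_cancel]; exact one_mem _)
  wB := D.w_not_mem
  Wmul := by
    rintro g (hg | hg) hgT
    · exact absurd hg hgT
    · exact ⟨w⁻¹ * g, hg, by group⟩
  Wn := by
    rintro g (hg | hg) d hd
    · exact mul_mem (mul_mem hg hd) (inv_mem hg)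
    · have h1 := twoPt_conj hc (mul_mem (mul_mem hg hd) (inv_mem hg))
      rw [← w_conj_eq hc] at h1
      have : w * (w⁻¹ * g * d * (w⁻¹ * g)⁻¹) * w⁻¹ = g * d * g⁻¹ := by group
      rwa [this] at h1
  WB := by
    rintro g (hg | hg) hgB
    · exact hg
    · exfalso
      apply D.w_not_mem
      have := B.mul_mem hgB (B.inv_mem (mem_twoPt.1 hg).1)
      have e : g * (w⁻¹ * g)⁻¹ = w := by group
      rwa [e] at this
  bruhat := by
    intro g hg
    obtain ⟨s, hs, h⟩ := D.bruhat g hg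
    exact ⟨s, hs, (s * w)⁻¹ * g, h, by group⟩
  conjD := fun b hb h => mem_twoPt.2 ⟨hb, h⟩

end frame

/-- a character of the torus extending `l`, invariant under `w` -/
theorem exists_lam {T : Type*} [Group T] [Finite T] (hcomm : ∀ s t : T, s * t = t * s) (K : Subgroup T)
    (l : K →* ℂˣ) (hl3 : ∀ z : K, l z ^ 3 = 1) (c : T →* T) (hcc : ∀ t, c (c t) = t) (hcK : ∀ z : K, c z = z) :
    ∃ lam : T →* ℂˣ, (∀ z : K, lam z = l z) ∧ ∀ t, lam (c t) = lam t := by
  let _ : CommGroup T := { (inferInstance : Group T) with mul_comm := hcomm }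
  have : NeZero (Monoid.exponent T) := ⟨Monoid.exponent_ne_zero_of_finite⟩
  obtain ⟨μ, hμ⟩ := MonoidHom.domRestrict_surjective ℂ K (l⁻¹)
  have hμ' : ∀ z : K, μ z = (l z)⁻¹ := fun z => DFunLike.congr_fun hμ z
  refine ⟨μ * μ.comp c, ?_, ?_⟩
  · intro z
    rw [MonoidHom.mul_apply, MonoidHom.comp_apply, hcK, hμ']
    have := hl3 z
    rw [pow_succ, pow_two] at this
    rw [← mul_inv, inv_eq_iff_mul_eq_one]
    exact this
  · intro t
    rw [MonoidHom.mul_apply, MonoidHom.comp_apply, MonoidHom.mul_apply, MonoidHom.comp_apply, hcc, mul_comm]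

section PSU

open Cfsg.Agent.H904.PVU Cfsg.Agent.UThreeGen.MatGroup Cfsg.Agent.H212.U3.Model
open Cfsg.Agent.HKS.EndU (tor tor_mem tor_emb exists_tor tor_mem_center card_anti sne)

variable {F : Type u} [Field F] [Fintype F] {q : ℕ}

/-- the centre of the unitriangular group -/
def zen (σ : F →+* F) [hσ : Fact (∀ x, σ (σ x) = x)] : Subgroup (HG σ) where
  carrier := {x | x.a = 0}
  mul_mem' := by
    intro x y hx hy
    simp only [Set.mem_ofPred_eq] at *
    rw [mul_a, hx, hy, add_zero]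
  one_mem' := rfl
  inv_mem' := by
    intro x hx
    simp only [Set.mem_ofPred_eq] at *
    rw [inv_a, hx, neg_zero]

omit [Fintype F] in
theorem mem_zen {σ : F →+* F} [hσ : Fact (∀ x, σ (σ x) = x)] {x : HG σ} : x ∈ zen σ ↔ x.a = 0 := Iff.rfl

theorem card_zen {σ : F →+* F} [hσ : Fact (∀ x, σ (σ x) = x)] (hF : Fintype.card F = q ^ 2) (hs : ∀ x, σ x = x ^ q) :
    Nat.card (zen σ) = q := by
  rw [← card_anti (σ := σ) hF hs]
  refine Nat.card_congr
    { toFun := fun x => ⟨x.1.b, ?_⟩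
      invFun := fun b => ⟨⟨0, b.1, ?_⟩, rfl⟩
      left_inv := ?_
      right_inv := ?_ }
  · rw [x.1.h, mem_zen.1 x.2, zero_mul]
  · rw [b.2, zero_mul]
  · intro x
    apply Subtype.ext
    apply HG.ext
    · exact (mem_zen.1 x.2).symm
    · rfl
  · intro b
    rfl

variable {σ : F →+* F} [hσ : Fact (∀ x, σ (σ x) = x)] {π₀ : SUG σ →* Cfsg.PSU 3 F q}

/-- the kernel of the torus -/
theorem sq_eq (S : Setup F q σ π₀) {l : Fˣ} (h : π₀ (tor σ l) = 1) : (l : F) ^ 2 = σ (l : F) := by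
  obtain ⟨x, hx⟩ := exists_a (σ := σ) S.card S.hs 1
  have h2 : Cfsg.Agent.HKS.EndU.act l x = x := S.act_eq (by rw [h, one_mul, mul_one])
  have h3 : (l : F) ^ 2 / σ (l : F) * x.a = x.a := congrArg HG.a h2
  rwa [hx, mul_one, div_eq_one_iff_eq (sne l)] at h3

theorem card_torus (S : Setup F q σ π₀) (h3 : 3 ∣ q + 1) :
    Nat.card (π₀.comp (tor σ)).range * 3 = q ^ 2 - 1 := by
  have hker : (π₀.comp (tor σ)).ker = (powMonoidHom 3 : Fˣ →* Fˣ).ker := by
    ext l
    rw [MonoidHom.mem_ker, MonoidHom.mem_ker, MonoidHom.comp_apply, powMonoidHom_apply]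
    constructor
    · intro h
      have hl := sq_eq S h
      have h1 : (l : F) ≠ 0 := l.ne_zero
      have h4 := congrArg σ hl
      rw [map_pow, sig, ← hl] at h4
      have h5 : (l : F) * ((l : F) ^ 3 - 1) = 0 := by linear_combination h4
      apply Units.ext
      rw [Units.val_pow_eq_pow_val, Units.val_one]
      exact sub_eq_zero.1 ((mul_eq_zero.1 h5).resolve_left h1)
    · intro h
      rw [S.ker]
      apply tor_mem_center
      obtain ⟨k, hk⟩ := h3
      have h1 : l ^ (q + 1) = 1 := by rw [hk, pow_mul, h, one_pow]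
      have h4 : l ^ 2 = l ^ q := by
        have h5 : l ^ 2 * l = l ^ q * l := by rw [← pow_succ, ← pow_succ, h1]; exact h
        exact mul_right_cancel h5
      rw [S.hs, ← Units.val_pow_eq_pow_val, h4, Units.val_pow_eq_pow_val]
  have h1 := (π₀.comp (tor σ)).ker.card_mul_index
  have hc : Nat.card Fˣ = q ^ 2 - 1 := by
    rw [Nat.card_units, Nat.card_eq_fintype_card, S.card]
  have hqq : q ^ 2 - 1 = (q + 1) * (q - 1) := by
    have := Nat.sq_sub_sq q 1
    rwa [one_pow] at this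
  rw [Subgroup.index_ker, hker, IsCyclic.card_powMonoidHom_ker, hc,
    Nat.gcd_eq_right (by rw [hqq]; exact Dvd.dvd.mul_right h3 _)] at h1
  rw [mul_comm]
  exact h1

set_option maxHeartbeats 1600000 in
/-- **`PSU₃(q)`, the own characteristic.** -/
theorem nb_psu3_own (hF : Fintype.card F = q ^ 2) (hq : 2 < q) {p : ℕ} (hp : p.Prime) (hp2 : p ≠ 2)
    (hd : p ∣ q) (h3 : 3 ∣ q + 1) : NB p 3 (Cfsg.PSU 3 F q) := by
  intro E _ _ π hπ hker _ hcard l _
  obtain ⟨σ, hσ, π₀, S⟩ := exists_setup hF hq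
  -- the field
  obtain ⟨a, hqa⟩ : ∃ a, q = p ^ a := by
    obtain ⟨n, hr, hn⟩ := FiniteField.card F (ringChar F)
    have h1 : q ∣ ringChar F ^ (n : ℕ) := by
      rw [← hn, hF]
      exact dvd_pow_self q two_ne_zero
    obtain ⟨f, -, hf⟩ := (Nat.dvd_prime_pow hr).1 h1
    have h2 : p = ringChar F := (Nat.prime_dvd_prime_iff_eq hp hr).1 (hp.dvd_of_dvd_pow (hd.trans h1))
    exact ⟨f, by rw [h2]; exact hf⟩
  have h2F : (2 : F) ≠ 0 := by
    intro h
    have hpf := Fact.mk hp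
    have h1 : (2 : ℕ) ∣ Fintype.card F := by
      have hc := ringChar.spec F 2
      rw [Nat.cast_ofNat] at hc
      have h2 := hc.1 h
      obtain ⟨n, hr, hn⟩ := FiniteField.card F (ringChar F)
      have h4 : ringChar F = 2 := (Nat.prime_dvd_prime_iff_eq hr Nat.prime_two).1 h2
      rw [hn, h4]
      exact dvd_pow_self 2 n.ne_zero
    rw [hF, hqa, ← pow_mul] at h1
    exact hp2 ((Nat.prime_dvd_prime_iff_eq Nat.prime_two hp).1 (Nat.prime_two.dvd_of_dvd_pow h1)).symm
  have hq4 : 4 < q := by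
    by_contra hlt
    have h1 : q = 3 ∨ q = 4 := by omega
    rcases h1 with rfl | rfl
    · omega
    · omega
  -- the lift of the unipotent group
  obtain ⟨C, hC, hCU, hcC⟩ := exists_lift π hπ hker ((emb σ).range.map π₀) (by
    rw [hcard, S.card_U]
    apply Nat.Coprime.pow_right
    rw [Nat.Prime.coprime_iff_not_dvd Nat.prime_three]
    omega)
  rw [S.card_U] at hcC
  have hkm : ∀ k ∈ π.ker, k ^ 3 = 1 := by
    intro k hk
    have h1 : (⟨k, hk⟩ : π.ker) ^ Nat.card π.ker = 1 := pow_card_eq_one'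
    rw [hcard] at h1
    exact congrArg Subtype.val h1
  have hCK : ∀ u ∈ C, u ∈ π.ker → u = 1 := by
    intro u hu hk
    have h2 : orderOf u ∣ Nat.gcd 3 (q ^ 3) := by
      refine Nat.dvd_gcd (orderOf_dvd_of_pow_eq_one (hkm u hk)) (orderOf_dvd_of_pow_eq_one ?_)
      rw [← S.card_U]
      exact ((hC u).1 hu).2
    have h4 : Nat.gcd 3 (q ^ 3) = 1 := by
      apply Nat.Coprime.pow_right
      rw [Nat.Prime.coprime_iff_not_dvd Nat.prime_three]
      omega
    rw [h4] at h2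
    exact orderOf_eq_one_iff.1 (Nat.dvd_one.1 h2)
  have hinj : ∀ u ∈ C, ∀ v ∈ C, π u = π v → u = v := by
    intro u hu v hv h
    have h1 : v⁻¹ * u = 1 := hCK _ (C.mul_mem (C.inv_mem hv) hu) (by
      rw [MonoidHom.mem_ker, map_mul, map_inv, h, inv_mul_cancel])
    exact (inv_mul_eq_one.1 h1).symm
  have hCe : ∀ u ∈ C, ∃ x : HG σ, π u = π₀ (emb σ x) := by
    intro u hu
    obtain ⟨_, ⟨x, rfl⟩, hx⟩ := ((hC u).1 hu).1
    exact ⟨x, hx.symm⟩
  have hCs : ∀ x : HG σ, ∃ u ∈ C, π u = π₀ (emb σ x) := fun x => hCU _ ⟨_, ⟨x, rfl⟩, rfl⟩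
  obtain ⟨w', hw'⟩ := hπ (π₀ (wel σ))
  have D' : Data (((borel σ).map π₀).comap π) C w' :=
    { w_not_mem := by
        intro h
        rw [Subgroup.mem_comap, hw'] at h
        exact S.data.w_not_mem h
      le := fun c hc => S.data.le ((hC c).1 hc).1
      norm := by
        intro h hh s hs
        rw [hC] at hs ⊢
        refine ⟨?_, ?_⟩
        · rw [map_mul, map_mul, map_inv]
          exact S.data.norm _ hh _ hs.1
        · rw [conj_pow, hs.2, mul_one, mul_inv_cancel]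
      bruhat := by
        intro g hg
        obtain ⟨s, hs, h⟩ := S.data.bruhat (π g) hg
        obtain ⟨c, hc, rfl⟩ := hCU s hs
        refine ⟨c, hc, ?_⟩
        rw [Subgroup.mem_comap, map_mul, map_inv, map_mul, hw']
        exact h
      inter := by
        intro s hs h
        rw [Subgroup.mem_comap, map_mul, map_mul, map_inv, hw'] at h
        exact hCK s hs (S.data.inter _ ((hC s).1 hs).1 h) }
  have hwk : w' * w' ∈ π.ker := by
    rw [MonoidHom.mem_ker, map_mul, hw', ← map_mul, wel_mul_wel, map_one]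
  have hkB : π.ker ≤ ((borel σ).map π₀).comap π := by
    intro k hk
    rw [Subgroup.mem_comap, MonoidHom.mem_ker.1 hk]
    exact one_mem _
  have hwc := hker hwk
  have hR := rankOne_of_data D' hwc (hkB hwk)
  set T := twoPt (((borel σ).map π₀).comap π) w' with hT
  have hKT : π.ker ≤ T := by
    intro k hk
    rw [hT, mem_twoPt]
    refine ⟨hkB hk, ?_⟩
    have h1 := Subgroup.mem_center_iff.1 (hker hk) w'
    rw [mul_assoc, ← h1, inv_mul_cancel_left]
    exact hkB hk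
  -- the torus
  have hTt : ∀ t ∈ T, ∃ m : Fˣ, π t = π₀ (tor σ m) := by
    intro t ht
    obtain ⟨⟨g, hg, hgt⟩, h2⟩ := mem_twoPt.1 ht
    rw [Subgroup.mem_comap, map_mul, map_mul, map_inv, hw', ← hgt, ← map_inv, ← map_mul, ← map_mul] at h2
    obtain ⟨m, hm⟩ := exists_tor hg (Cfsg.Agent.UThreeGen.DataIso.mem_of_map_mem π₀ S.ker_le h2)
    exact ⟨m, by rw [← hgt, hm]⟩
  have hTs : ∀ m : Fˣ, ∃ t ∈ T, π t = π₀ (tor σ m) := by
    intro m
    obtain ⟨t, ht⟩ := hπ (π₀ (tor σ m))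
    refine ⟨t, ?_, ht⟩
    rw [hT, mem_twoPt, Subgroup.mem_comap, Subgroup.mem_comap, map_mul, map_mul, map_inv, hw', ht]
    refine ⟨S.tor_mem' m, ?_⟩
    have h1 := S.w_tor m
    have h2 : (π₀ (wel σ))⁻¹ = π₀ (wel σ) := by rw [← map_inv, wel_inv]
    rw [h2] at h1 ⊢
    rw [h1]
    exact S.tor_mem' _
  have hTmap : T.map π = (π₀.comp (tor σ)).range := by
    ext x
    constructor
    · rintro ⟨t, ht, rfl⟩
      obtain ⟨m, hm⟩ := hTt t ht
      exact ⟨m, hm.symm⟩
    · rintro ⟨m, rfl⟩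
      obtain ⟨t, ht, h⟩ := hTs m
      exact ⟨t, ht, h⟩
  have hcT : Nat.card T * 3 = (q ^ 2 - 1) * Nat.card π.ker := by
    have h1 := (π.ker.subgroupOf T).card_mul_index
    rw [Nat.card_congr (Subgroup.subgroupOfEquivOfLe hKT).toEquiv, hcard] at h1
    have h2 : (π.ker.subgroupOf T).index = Nat.card (π₀.comp (tor σ)).range := by
      change π.ker.relIndex T = _
      rw [Subgroup.relIndex_ker, hTmap]
    rw [h2] at h1
    rw [← h1, hcard, ← card_torus S h3]
    ring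
  have hcommT : ∀ s t : T, s * t = t * s := by
    have hcyc : IsCyclic (π₀.comp (tor σ)).range := isCyclic_of_surjective _ (π₀.comp (tor σ)).rangeRestrict_surjective
    let f : T →* (π₀.comp (tor σ)).range :=
      (π.comp T.subtype).codRestrict _ fun t => by
        obtain ⟨m, hm⟩ := hTt t t.2
        exact ⟨m, hm.symm⟩
    have hf : f.ker ≤ Subgroup.center T := by
      intro t ht
      have h1 : π (t : E) = 1 := congrArg Subtype.val (MonoidHom.mem_ker.1 ht)
      rw [Subgroup.mem_center_iff]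
      intro s
      exact Subtype.ext (Subgroup.mem_center_iff.1 (hker (MonoidHom.mem_ker.2 h1)) s)
    exact f.isMulCommutative_of_isCyclic_of_ker_le_center hf |>.is_comm.comm
  -- the linear character
  have hwT : ∀ t ∈ T, w' * t * w'⁻¹ ∈ T := fun t ht => hR.w_conj ht
  let c : T →* T :=
    { toFun := fun t => ⟨w' * t * w'⁻¹, hwT t t.2⟩
      map_one' := Subtype.ext (by simp)
      map_mul' := fun s t => Subtype.ext (by simp) }
  obtain ⟨lam, hlK, hlc⟩ := exists_lam hcommT (π.ker.subgroupOf T)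
    (l.comp (Subgroup.subgroupOfEquivOfLe hKT).toMonoidHom) (by
      intro z
      rw [MonoidHom.comp_apply, ← map_pow, ← map_pow]
      have : z ^ 3 = 1 := Subtype.ext (Subtype.ext (hkm _ z.2))
      rw [this, map_one, map_one]) c (by
      intro t
      apply Subtype.ext
      change w' * (w' * t * w'⁻¹) * w'⁻¹ = t
      rw [w_conj_eq hwc]
      group) (by
      intro z
      apply Subtype.ext
      change w' * (z : T) * w'⁻¹ = (z : T)
      have h1 := Subgroup.mem_center_iff.1 (hker z.2) w'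
      rw [mul_inv_eq_iff_eq_mul]
      exact h1)
  -- the centre of the unipotent group
  set Z0 : Subgroup E := C ⊓ ((zen σ).map (π₀.comp (emb σ))).comap π with hZ0
  have hZ0m : ∀ z, z ∈ Z0 ↔ z ∈ C ∧ ∃ y : HG σ, y.a = 0 ∧ π₀ (emb σ y) = π z := fun z => Iff.rfl
  have hcZ : Nat.card Z0 = q := by
    have h1 : Nat.card ((zen σ).map (π₀.comp (emb σ))) = q :=
      (Nat.card_congr ((zen σ).equivMapOfInjective _ S.inj).toEquiv).symm.trans (card_zen hF S.hs)
    refine Eq.trans ?_ h1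
    refine Nat.card_eq_of_bijective (fun z : Z0 => (⟨π z, z.2.2⟩ : (zen σ).map (π₀.comp (emb σ)))) ⟨?_, ?_⟩
    · intro z z' h
      exact Subtype.ext (hinj _ z.2.1 _ z'.2.1 (congrArg Subtype.val h))
    · rintro ⟨_, ⟨y, hy, rfl⟩⟩
      obtain ⟨u, hu, huy⟩ := hCs y
      exact ⟨⟨u, hu, ⟨y, hy, huy.symm⟩⟩, Subtype.ext huy⟩
  have hemb : ∀ {x y : HG σ}, π₀ (emb σ x) = π₀ (emb σ y) → x = y := fun h => S.inj h
  have htor : ∀ (m : Fˣ) (x : HG σ), π₀ (tor σ m) * π₀ (emb σ x) * (π₀ (tor σ m))⁻¹ = π₀ (emb σ (Cfsg.Agent.HKS.EndU.act m x)) := by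
    intro m x
    rw [mul_inv_eq_iff_eq_mul, ← map_mul, ← map_mul, tor_emb]
  obtain ⟨χ, hχ, hχl, hχp⟩ := exists_dvd_own hR hp hqa hq4 hcC (Z0 := Z0) inf_le_left hcZ (by
      intro z hz u hu
      obtain ⟨hzC, y, hy, hyz⟩ := (hZ0m z).1 hz
      obtain ⟨x, hx⟩ := hCe u hu
      apply hinj _ (C.mul_mem hzC hu) _ (C.mul_mem hu hzC)
      rw [map_mul, map_mul, ← hyz, hx, ← map_mul, ← map_mul, ← map_mul, ← map_mul]
      congr 2
      apply HG.ext
      · rw [mul_a, mul_a, add_comm]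
      · rw [mul_b, mul_b, hy, map_zero]
        ring) (by
      intro u hu huZ z hz
      obtain ⟨hzC, y, hy, hyz⟩ := (hZ0m z).1 hz
      obtain ⟨x, hx⟩ := hCe u hu
      have hxa : x.a ≠ 0 := fun h => huZ ((hZ0m u).2 ⟨hu, x, h, hx.symm⟩)
      have hxa' : σ x.a ≠ 0 := (map_ne_zero σ).mpr hxa
      obtain ⟨v', hv'⟩ := exists_a (σ := σ) S.card S.hs (y.b / (2 * σ x.a))
      obtain ⟨v, hv, hvv⟩ := hCs v'
      refine ⟨v, hv, ?_⟩
      apply hinj _ (C.mul_mem (C.mul_mem hv hu) (C.inv_mem hv)) _ (C.mul_mem hu hzC)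
      rw [map_mul, map_mul, map_inv, map_mul, ← hyz, hx, hvv, mul_inv_eq_iff_eq_mul, ← map_mul, ← map_mul,
        ← map_mul, ← map_mul, ← map_mul, ← map_mul]
      congr 2
      have hyb : σ y.b = -y.b := by
        have := y.h
        rw [hy, zero_mul] at this
        linear_combination this
      apply HG.ext
      · rw [mul_a, mul_a, mul_a, hy]
        ring
      · rw [mul_b, mul_b, mul_b, mul_a, hy, hv', map_zero, map_div₀, map_mul, map_ofNat, sig, hyb]
        field_simp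
        ring) hker hKT hcT (by
      intro d hd z hz
      obtain ⟨hzC, y, hy, hyz⟩ := (hZ0m z).1 hz
      obtain ⟨m, hm⟩ := hTt d hd
      refine (hZ0m _).2 ⟨D'.norm d (hR.DB hd) z hzC, Cfsg.Agent.HKS.EndU.act m y, ?_, ?_⟩
      · change (m : F) ^ 2 / σ (m : F) * y.a = 0
        rw [hy, mul_zero]
      · rw [map_mul, map_mul, map_inv, hm, ← hyz, htor]) (by
      rintro t ht htK u hu ⟨z, hz, h⟩
      obtain ⟨hzC, y, hy, hyz⟩ := (hZ0m z).1 hz
      obtain ⟨x, hx⟩ := hCe u hu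
      obtain ⟨m, hm⟩ := hTt t ht
      refine (hZ0m u).2 ⟨hu, x, ?_, hx.symm⟩
      by_contra hxa
      have h1 := congrArg π h
      rw [map_mul, map_mul, map_inv, map_mul, hm, hx, ← hyz, htor, ← map_mul, ← map_mul] at h1
      have h2 := congrArg HG.a (hemb h1)
      rw [mul_a, hy, add_zero] at h2
      have h4 : (m : F) ^ 2 / σ (m : F) * x.a = x.a := h2
      have h5 : (m : F) ^ 2 / σ (m : F) = 1 := mul_right_cancel₀ hxa (h4.trans (one_mul _).symm)
      rw [div_eq_one_iff_eq (sne m)] at h5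
      apply htK
      rw [MonoidHom.mem_ker, hm, S.ker]
      exact tor_mem_center h5) lam (fun d hd => hlc ⟨d, hd⟩)
  refine ⟨χ, hχ, fun z => ?_, hχp⟩
  rw [hχl z z.2]
  congr 2
  exact hlK ⟨⟨z, hKT z.2⟩, z.2⟩

/-- **`PSU₃(q)`, the own characteristic, all kernels.** -/
theorem nball_psu3_own (hF : Fintype.card F = q ^ 2) (hq : 2 < q) {p : ℕ} (hp : p.Prime) (hp2 : p ≠ 2)
    (hd : p ∣ q) : NBall p (Cfsg.PSU 3 F q) := by
  intro m hm hpm E _ _ π hπ hker hcomm hcard
  have h1 := (Cfsg.Agent.S2089.result 3 q hF le_rfl (by rintro ⟨-, rfl⟩; omega) (by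
    simp)).2 E π ⟨hπ, hker, by rw [hcomm]; exact le_top⟩
  obtain ⟨f, hf⟩ := h1
  have h2 : m ∣ Nat.gcd 3 (q + 1) := by
    have h4 : Nat.card π.ker ∣ Nat.card (Multiplicative (ZMod (Nat.gcd 3 (q + 1)))) :=
      Subgroup.card_dvd_of_surjective f hf
    rw [hcard] at h4
    have h5 : Nat.card (Multiplicative (ZMod (Nat.gcd 3 (q + 1)))) = Nat.gcd 3 (q + 1) := by
      rw [Nat.card_congr Multiplicative.toAdd, Nat.card_zmod]
    rwa [h5] at h4
  have h4 : m ∣ 3 := h2.trans (Nat.gcd_dvd_left _ _)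
  have h5 : m = 3 := ((Nat.dvd_prime Nat.prime_three).1 h4).resolve_left (by omega)
  subst h5
  have h6 : 3 ∣ q + 1 := h2.trans (Nat.gcd_dvd_right _ _)
  exact nb_psu3_own hF hq hp hp2 hd h6 E π hπ hker hcomm hcard

end PSU

end Cfsg.Agent.H497.RIM.Own
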